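import Mathlib
import Groth.Agent.CAlgUI.Coherent

/-!
# Saturated submodules over polynomial rings over valuation rings and semilocal Prüfer domains

A saturated submodule of a finite free module over `V[x_1, …, x_n]`, `V` a valuation ring, is finitely
generated (homogenise, reduce modulo the maximal ideal and use Nakayama in each degree).  Consequently
polynomial rings and finitely presented algebras over semilocal Prüfer domains are coherent.
-/

set_option autoImplicit false
set_option linter.style.haveILetI false

universe u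

open MvPolynomial IsLocalRing

namespace Groth.Agent.PruferCoh

/-- `N` is saturated over `R`. -/
def Saturated (R : Type*) {P M : Type*} [CommRing R] [CommRing P] [AddCommGroup M] [Module R M] [Module P M]
    (N : Submodule P M) : Prop :=
  ∀ (c : R) (x : M), c ≠ 0 → c • x ∈ N → x ∈ N

theorem homogeneousComponent_mul_left {σ R : Type*} [CommRing R] {F : MvPolynomial σ R} {i : ℕ}
    (hF : F.IsHomogeneous i) (c : MvPolynomial σ R) (e : ℕ) :
    homogeneousComponent e (c * F) = (if i ≤ e then homogeneousComponent (e - i) c else 0) * F := by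
  conv_lhs => rw [← sum_homogeneousComponent c]
  rw [Finset.sum_mul, map_sum]
  have h : ∀ a, homogeneousComponent e (homogeneousComponent a c * F) =
      if a + i = e then homogeneousComponent a c * F else 0 := fun a => by
    rw [homogeneousComponent_of_mem ((homogeneousComponent_isHomogeneous a c).mul hF)]
    exact if_congr eq_comm rfl rfl
  simp only [h]
  by_cases hie : i ≤ e
  · rw [if_pos hie]
    have h2 : ∀ a, (a + i = e) ↔ a = e - i := fun a => by omega
    simp only [h2]
    rw [Finset.sum_ite_eq' _ (e - i) (fun a => homogeneousComponent a c * F)]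
    split_ifs with hmem
    · rfl
    · rw [homogeneousComponent_eq_zero _ _ (by simp [Finset.mem_range] at hmem; omega), zero_mul]
  · rw [if_neg hie, zero_mul]
    exact Finset.sum_eq_zero fun a _ => if_neg (by omega)

theorem map_homogeneousComponent {σ R S : Type*} [CommRing R] [CommRing S] (f : R →+* S) (c : MvPolynomial σ R) (e : ℕ) :
    MvPolynomial.map f (homogeneousComponent e c) = homogeneousComponent e (MvPolynomial.map f c) := by
  ext d
  rw [coeff_map, coeff_homogeneousComponent, coeff_homogeneousComponent, coeff_map]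
  split_ifs <;> simp

section Valuation

variable {V : Type u} [CommRing V] [IsDomain V] [ValuationRing V] {n s : ℕ}

/-- The dehomogenisation. -/
noncomputable def dehom : MvPolynomial (Fin (n + 1)) V →ₐ[V] MvPolynomial (Fin n) V :=
  aeval (Fin.cases (1 : MvPolynomial (Fin n) V) X)

theorem dehom_monomial (k : ℕ) (β : Fin n →₀ ℕ) (b : V) :
    dehom (monomial (β.cons k) b) = monomial β b := by
  rw [dehom, aeval_monomial, Finsupp.prod_fintype _ _ (fun i => pow_zero _), Fin.prod_univ_succ]
  simp only [Fin.cases_zero, one_pow, one_mul, Fin.cases_succ, Finsupp.cons_succ]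
  rw [MvPolynomial.algebraMap_eq, monomial_eq, Finsupp.prod_fintype _ _ (fun i => pow_zero _)]

theorem exists_homogenisation (x : Fin s → MvPolynomial (Fin n) V) :
    ∃ (e : ℕ) (F : Fin s → MvPolynomial (Fin (n + 1)) V), (∀ j, (F j).IsHomogeneous e) ∧ ∀ j, dehom (F j) = x j := by
  classical
  let e := Finset.univ.sup fun j => (x j).support.sup Finsupp.degree
  refine ⟨e, fun j => ∑ β ∈ (x j).support, monomial (β.cons (e - Finsupp.degree β)) (coeff β (x j)), fun j => ?_, fun j => ?_⟩
  · refine IsHomogeneous.sum _ _ _ fun β hβ => isHomogeneous_monomial _ ?_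
    have h1 : Finsupp.degree β ≤ e :=
      le_trans (Finset.le_sup (f := Finsupp.degree) hβ)
        (Finset.le_sup (f := fun j => (x j).support.sup Finsupp.degree) (Finset.mem_univ j))
    rw [Finsupp.degree_eq_sum, Fin.sum_univ_succ]
    simp only [Finsupp.cons_zero, Finsupp.cons_succ]
    rw [← Finsupp.degree_eq_sum]
    omega
  · rw [map_sum]
    simp only [dehom_monomial]
    exact (x j).as_sum.symm

variable (N : Submodule (MvPolynomial (Fin n) V) (Fin s → MvPolynomial (Fin n) V))

/-- Homogeneous vectors of degree `e` which dehomogenise into `N`. -/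
noncomputable def Hom (e : ℕ) : Submodule V (Fin s → MvPolynomial (Fin (n + 1)) V) :=
  Submodule.pi Set.univ (fun _ => homogeneousSubmodule (Fin (n + 1)) V e) ⊓
    (N.restrictScalars V).comap ((dehom (V := V) (n := n)).toLinearMap.compLeft (Fin s))

theorem mem_Hom {e : ℕ} {F : Fin s → MvPolynomial (Fin (n + 1)) V} :
    F ∈ Hom N e ↔ (∀ j, (F j).IsHomogeneous e) ∧ (fun j => dehom (F j)) ∈ N := by
  constructor
  · rintro ⟨h1, h2⟩
    exact ⟨fun j => (mem_homogeneousSubmodule _ _).1 (h1 j trivial), h2⟩
  · rintro ⟨h1, h2⟩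
    exact ⟨fun j _ => (mem_homogeneousSubmodule _ _).2 (h1 j), h2⟩

theorem fg_Hom (hN : Saturated V N) (e : ℕ) : (Hom N e).FG := by
  let W : Submodule V (Fin s → MvPolynomial (Fin (n + 1)) V) :=
    Submodule.pi Set.univ (fun _ => homogeneousSubmodule (Fin (n + 1)) V e)
  haveI : Module.Finite V W :=
    Module.Finite.iff_fg.2 (Submodule.fg_pi fun _ => homogeneousSubmodule_fg _ _ e)
  let K : Submodule V W := (Hom N e).comap W.subtype
  haveI : Module.Flat V (W ⧸ K) := by
    rw [Module.Flat.flat_iff_torsion_eq_bot_of_isBezout, eq_bot_iff]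
    rintro m ⟨⟨c, hc⟩, hcm⟩
    obtain ⟨⟨x, hx⟩, rfl⟩ := Submodule.Quotient.mk_surjective _ m
    rw [Submonoid.mk_smul, ← Submodule.Quotient.mk_smul, Submodule.Quotient.mk_eq_zero] at hcm
    rw [Submodule.mem_bot, Submodule.Quotient.mk_eq_zero]
    have hcx : c • x ∈ Hom N e := hcm
    refine ⟨hx, hN c _ (nonZeroDivisors.ne_zero hc) ?_⟩
    have h2 := ((mem_Hom N).1 hcx).2
    convert h2 using 1
    funext j
    simp
  haveI : Module.Free V (W ⧸ K) := Module.free_of_flat_of_isLocalRing
  haveI : Module.FinitePresentation V (W ⧸ K) := Module.finitePresentation_of_projective V _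
  have hK : K.FG := by
    have := Module.FinitePresentation.fg_ker K.mkQ K.mkQ_surjective
    rwa [Submodule.ker_mkQ] at this
  have : K.map W.subtype = Hom N e := by
    rw [Submodule.map_comap_eq, Submodule.range_subtype]
    exact inf_eq_right.2 inf_le_left
  exact this ▸ hK.map _

/-- A vector vanishing modulo the maximal ideal is a multiple of a vector by an element of it. -/
theorem mem_smul_Hom (hN : Saturated V N) {e : ℕ} {F : Fin s → MvPolynomial (Fin (n + 1)) V} (hF : F ∈ Hom N e)
    (h0 : ∀ j d, coeff d (F j) ∈ maximalIdeal V) : F ∈ maximalIdeal V • Hom N e := by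
  classical
  let J : Ideal V := Ideal.span (↑(Finset.univ.biUnion fun j => (F j).support.image fun d => coeff d (F j)) : Set V)
  haveI : J.IsPrincipal := IsBezout.isPrincipal_of_FG J (Submodule.fg_span (Finset.finite_toSet _))
  let c := Submodule.IsPrincipal.generator J
  have hcJ : c ∈ J := Submodule.IsPrincipal.generator_mem J
  have hcm : c ∈ maximalIdeal V := by
    refine Ideal.span_le.2 (fun a ha => ?_) hcJ
    obtain ⟨j, -, hj⟩ := Finset.mem_biUnion.1 (Finset.mem_coe.1 ha)
    obtain ⟨d, -, rfl⟩ := Finset.mem_image.1 hj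
    exact h0 j d
  have hdvd : ∀ j d, ∃ a, coeff d (F j) = c * a := fun j d => by
    by_cases hd : coeff d (F j) = 0
    · exact ⟨0, by rw [hd, mul_zero]⟩
    · have : coeff d (F j) ∈ J := Ideal.subset_span (Finset.mem_coe.2 (Finset.mem_biUnion.2
        ⟨j, Finset.mem_univ j, Finset.mem_image.2 ⟨d, mem_support_iff.2 hd, rfl⟩⟩))
      obtain ⟨a, ha⟩ := (Submodule.IsPrincipal.mem_iff_eq_smul_generator J).1 this
      exact ⟨a, by rw [ha, smul_eq_mul, mul_comm]⟩
  by_cases hc : c = 0
  · have : F = 0 := funext fun j => MvPolynomial.ext _ _ fun d => by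
      obtain ⟨a, ha⟩ := hdvd j d
      rw [ha, hc, zero_mul]; simp
    rw [this]
    exact zero_mem _
  choose a ha using hdvd
  let G : Fin s → MvPolynomial (Fin (n + 1)) V := fun j => ∑ d ∈ (F j).support, monomial d (a j d)
  have hFG : F = c • G := funext fun j => by
    rw [Pi.smul_apply, Finset.smul_sum]
    conv_lhs => rw [(F j).as_sum]
    exact Finset.sum_congr rfl fun d _ => by rw [smul_monomial, smul_eq_mul, ← ha]
  obtain ⟨hhom, hmem⟩ := (mem_Hom N).1 hF
  have hG : G ∈ Hom N e := (mem_Hom N).2 ⟨fun j => IsHomogeneous.sum _ _ _ fun d hd =>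
    isHomogeneous_monomial _ (by
      have := hhom j (mem_support_iff.1 hd)
      simpa [Finsupp.degree_eq_weight_one, Pi.one_def] using this), hN c _ hc (by
    convert hmem using 1
    funext j
    rw [hFG]; simp)⟩
  rw [hFG]
  exact Submodule.smul_mem_smul hcm hG

/-- **Saturated submodules over a polynomial ring over a valuation ring are finitely generated.** -/
theorem fg_of_saturated_valuationRing (hN : Saturated V N) : N.FG := by
  classical
  let red : MvPolynomial (Fin (n + 1)) V →+* MvPolynomial (Fin (n + 1)) (ResidueField V) := MvPolynomial.map (residue V)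
  let gens : Set (Fin s → MvPolynomial (Fin (n + 1)) (ResidueField V)) :=
    {v | ∃ e, ∃ F ∈ Hom N e, (fun j => red (F j)) = v}
  obtain ⟨T, hT, hspan⟩ := (Submodule.fg_span_iff_fg_span_finset_subset (R := MvPolynomial (Fin (n + 1)) (ResidueField V)) gens).1
    (IsNoetherian.noetherian _)
  choose deg lift hlift hred using fun v : T => hT v.2
  let Sp : Submodule (MvPolynomial (Fin (n + 1)) V) (Fin s → MvPolynomial (Fin (n + 1)) V) := Submodule.span _ (Set.range lift)
  have key : ∀ e, Hom N e ≤ Sp.restrictScalars V := by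
    intro e
    refine le_trans ?_ (inf_le_left : Sp.restrictScalars V ⊓ Hom N e ≤ _)
    refine Submodule.le_of_le_smul_of_le_jacobson_bot (fg_Hom N hN e) (IsLocalRing.maximalIdeal_le_jacobson _) ?_
    intro F hF
    obtain ⟨hhom, hmem⟩ := (mem_Hom N).1 hF
    have h1 : (fun j => red (F j)) ∈ Submodule.span (MvPolynomial (Fin (n + 1)) (ResidueField V))
        (Set.range fun v : T => (v : Fin s → MvPolynomial (Fin (n + 1)) (ResidueField V))) := by
      have h : (fun j => red (F j)) ∈ Submodule.span (MvPolynomial (Fin (n + 1)) (ResidueField V)) gens :=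
        Submodule.subset_span ⟨e, F, hF, rfl⟩
      rw [hspan] at h
      simpa using h
    obtain ⟨c, hc⟩ := (Submodule.mem_span_range_iff_exists_fun _).1 h1
    choose c' hc' using fun v => MvPolynomial.map_surjective (residue V) residue_surjective (c v)
    let co : T → MvPolynomial (Fin (n + 1)) V := fun v =>
      if deg v ≤ e then homogeneousComponent (e - deg v) (c' v) else 0
    let A : Fin s → MvPolynomial (Fin (n + 1)) V := ∑ v : T, co v • lift v
    have hAe : ∀ j, homogeneousComponent e (∑ v : T, c' v * lift v j) = A j := fun j => by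
      simp only [A, Finset.sum_apply, Pi.smul_apply, smul_eq_mul, map_sum]
      refine Finset.sum_congr rfl fun v _ => ?_
      exact homogeneousComponent_mul_left (((mem_Hom N).1 (hlift v)).1 j) _ _
    have hA : A ∈ Sp.restrictScalars V ⊓ Hom N e := by
      refine ⟨Submodule.sum_mem _ fun v _ => Submodule.smul_mem _ _ (Submodule.subset_span (Set.mem_range_self v)),
        (mem_Hom N).2 ⟨fun j => hAe j ▸ homogeneousComponent_isHomogeneous _ _, ?_⟩⟩
      have : (fun j => dehom (A j)) = ∑ v : T, dehom (co v) •
          fun j => dehom (lift v j) := funext fun j => by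
        simp only [A, Finset.sum_apply, Pi.smul_apply, smul_eq_mul, map_sum, map_mul]
      rw [this]
      exact Submodule.sum_mem _ fun v _ => Submodule.smul_mem _ _ ((mem_Hom N).1 (hlift v)).2
    refine Submodule.mem_sup.2 ⟨A, hA, F - A, mem_smul_Hom N hN (Submodule.sub_mem _ hF hA.2) fun j d => ?_, add_sub_cancel _ _⟩
    have h2 : red ((F - A) j) = 0 := by
      rw [Pi.sub_apply, map_sub, sub_eq_zero, ← hAe j, map_homogeneousComponent, map_sum]
      have h3 : ∑ v : T, red (c' v * lift v j) = red (F j) := by
        have := congrFun hc j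
        simp only [Finset.sum_apply, Pi.smul_apply, smul_eq_mul] at this
        rw [← this]
        refine Finset.sum_congr rfl fun v _ => ?_
        rw [map_mul, show red (c' v) = c v from hc' v, ← congrFun (hred v) j]
      change red (F j) = homogeneousComponent e (∑ v : T, red (c' v * lift v j))
      rw [h3, ← map_homogeneousComponent, homogeneousComponent_of_mem (hhom j), if_pos rfl]
    have h4 := congrArg (coeff d) h2
    rw [show red ((F - A) j) = MvPolynomial.map (residue V) ((F - A) j) from rfl, coeff_map, coeff_zero] at h4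
    exact (residue_eq_zero_iff _).1 h4
  refine ⟨Finset.univ.image fun v : T => fun j => dehom (lift v j), le_antisymm (Submodule.span_le.2 ?_) ?_⟩
  · intro x hx
    simp only [Finset.coe_image, Set.mem_image, Finset.mem_coe] at hx
    obtain ⟨v, -, rfl⟩ := hx
    exact ((mem_Hom N).1 (hlift v)).2
  · intro x hx
    obtain ⟨e, F, hF, hFx⟩ := exists_homogenisation x
    have h1 := key e ((mem_Hom N).2 ⟨hF, by rw [show (fun j => dehom (F j)) = x from funext hFx]; exact hx⟩)
    obtain ⟨c, hc⟩ := (Submodule.mem_span_range_iff_exists_fun _).1 h1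
    rw [show x = ∑ v : T, dehom (c v) • fun j => dehom (lift v j) from funext fun j => by
      rw [← hFx j, ← hc]; simp [Finset.sum_apply]]
    exact Submodule.sum_mem _ fun v _ => Submodule.smul_mem _ _ (Submodule.subset_span (by simp))

end Valuation

section Semilocal

variable {R : Type u} [CommRing R] [IsDomain R] (hR : ∀ (p : Ideal R) [p.IsPrime], ValuationRing (Localization.AtPrime p))
  {n s : ℕ}

theorem exists_clear_denominators {S : Type u} [CommRing S] [Algebra R S] (M : Submonoid R) [IsLocalization M S]
    (y : MvPolynomial (Fin n) S) :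
    ∃ d ∈ M, ∃ x : MvPolynomial (Fin n) R, algebraMap R S d • y = MvPolynomial.map (algebraMap R S) x := by
  induction y using MvPolynomial.induction_on' with
  | monomial β a =>
    obtain ⟨⟨b, d⟩, h⟩ := IsLocalization.surj M a
    exact ⟨d, d.2, monomial β b, by rw [map_monomial, smul_monomial, smul_eq_mul, mul_comm, h]⟩
  | add p q hp hq =>
    obtain ⟨d, hd, x, hx⟩ := hp
    obtain ⟨d', hd', x', hx'⟩ := hq
    refine ⟨d * d', mul_mem hd hd', d' • x + d • x', ?_⟩
    rw [map_add, map_mul, smul_add, mul_comm, mul_smul, hx]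
    conv_lhs => arg 2; rw [mul_comm, mul_smul, hx']
    simp only [smul_eq_C_mul, map_mul, map_C]

theorem exists_clear_denominators_vec {S : Type u} [CommRing S] [Algebra R S] (M : Submonoid R) [IsLocalization M S]
    (y : Fin s → MvPolynomial (Fin n) S) :
    ∃ d ∈ M, ∃ x : Fin s → MvPolynomial (Fin n) R,
      algebraMap R S d • y = fun j => MvPolynomial.map (algebraMap R S) (x j) := by
  classical
  choose d hd x hx using fun j => exists_clear_denominators M (y j)
  refine ⟨∏ j, d j, prod_mem fun j _ => hd j, fun j => (∏ i ∈ Finset.univ.erase j, d i) • x j, funext fun j => ?_⟩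
  rw [Pi.smul_apply, ← Finset.prod_erase_mul _ _ (Finset.mem_univ j), map_mul, mul_smul, hx j]
  simp only [smul_eq_C_mul, map_mul, map_C]

include hR in
/-- Near a prime of the base, a saturated submodule has finitely many generators. -/
theorem exists_local_generators (N : Submodule (MvPolynomial (Fin n) R) (Fin s → MvPolynomial (Fin n) R))
    (hN : Saturated R N) (m : Ideal R) [m.IsPrime] :
    ∃ G : Finset (Fin s → MvPolynomial (Fin n) R), (∀ y ∈ G, y ∈ N) ∧
      ∀ x ∈ N, ∃ d ∉ m, d • x ∈ Submodule.span (MvPolynomial (Fin n) R) (G : Set (Fin s → MvPolynomial (Fin n) R)) := by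
  classical
  haveI := hR m
  let M := m.primeCompl
  let L := Localization.AtPrime m
  let mp : MvPolynomial (Fin n) R →+* MvPolynomial (Fin n) L := MvPolynomial.map (algebraMap R L)
  have hinjL : Function.Injective (algebraMap R L) := IsLocalization.injective L (m.primeCompl_le_nonZeroDivisors)
  have hinj : Function.Injective mp := MvPolynomial.map_injective _ hinjL
  let mv : (Fin s → MvPolynomial (Fin n) R) → (Fin s → MvPolynomial (Fin n) L) := fun x j => mp (x j)
  have hmvinj : Function.Injective mv := fun a b h => funext fun j => hinj (congrFun h j)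
  have hsm : ∀ (c : R) (x : Fin s → MvPolynomial (Fin n) R), mv (c • x) = algebraMap R L c • mv x := fun c x =>
    funext fun j => by simp only [mv, mp, Pi.smul_apply, smul_eq_C_mul, map_mul, map_C]
  have hmul : ∀ (p : MvPolynomial (Fin n) R) (x : Fin s → MvPolynomial (Fin n) R), mv (p • x) = mp p • mv x :=
    fun p x => funext fun j => by simp [mv]
  let NL : Submodule (MvPolynomial (Fin n) L) (Fin s → MvPolynomial (Fin n) L) :=
    Submodule.span _ (mv '' N)
  have hmemNL : ∀ y, y ∈ NL → ∃ d ∈ M, ∃ x ∈ N, algebraMap R L d • y = mv x := by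
    intro y hy
    induction hy using Submodule.span_induction with
    | mem y hy =>
      obtain ⟨x, hx, rfl⟩ := hy
      exact ⟨1, one_mem _, x, hx, by rw [map_one, one_smul]⟩
    | zero => exact ⟨1, one_mem _, 0, zero_mem _, by rw [smul_zero]; exact funext fun j => (map_zero mp).symm⟩
    | add y y' _ _ h h' =>
      obtain ⟨d, hd, x, hx, e⟩ := h
      obtain ⟨d', hd', x', hx', e'⟩ := h'
      refine ⟨d * d', mul_mem hd hd', d' • x + d • x',
        add_mem (Submodule.smul_of_tower_mem _ _ hx) (Submodule.smul_of_tower_mem _ _ hx'), ?_⟩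
      rw [show mv (d' • x + d • x') = mv (d' • x) + mv (d • x') from funext fun j => map_add mp _ _, hsm, hsm,
        map_mul, smul_add, ← e, ← e', ← mul_smul, ← mul_smul, mul_comm (algebraMap R L d')]
    | smul p y _ h =>
      obtain ⟨d, hd, x, hx, e⟩ := h
      obtain ⟨d', hd', q, hq⟩ := exists_clear_denominators M p
      refine ⟨d' * d, mul_mem hd' hd, q • x, Submodule.smul_mem _ _ hx, ?_⟩
      rw [hmul, ← e, show mp q = algebraMap R L d' • p from hq.symm, map_mul, mul_smul, smul_comm (algebraMap R L d) p y,
        smul_assoc]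
  have hNL : Saturated L NL := by
    intro c y hc hy
    obtain ⟨⟨a, b⟩, hab⟩ := IsLocalization.surj M c
    have ha : a ≠ 0 := fun h => by
      rw [h, map_zero, mul_eq_zero] at hab
      rcases hab with hab | hab
      · exact hc hab
      · exact (IsLocalization.map_units L b).ne_zero hab
    obtain ⟨d, hd, x, hx, e⟩ := hmemNL _ hy
    obtain ⟨d', hd', x', e'⟩ := exists_clear_denominators_vec (s := s) M y
    have h1 : mv ((d * a) • x') = mv ((d' * (b : R)) • x) := by
      rw [hsm, hsm, show mv x' = algebraMap R L d' • y from e'.symm, ← e, ← mul_smul, ← mul_smul, ← mul_smul, map_mul,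
        map_mul, ← hab]
      congr 1
      ring
    have h2 : x' ∈ N := hN _ _ (mul_ne_zero (fun h => hd (by rw [h]; exact zero_mem _)) ha)
      (hmvinj h1 ▸ Submodule.smul_of_tower_mem _ _ hx)
    have hu : IsUnit (algebraMap R L d') := IsLocalization.map_units L (⟨d', hd'⟩ : M)
    rw [show y = (↑hu.unit⁻¹ : L) • mv x' by
      rw [show mv x' = algebraMap R L d' • y from e'.symm, ← mul_smul, IsUnit.val_inv_mul, one_smul]]
    exact Submodule.smul_of_tower_mem _ _ (Submodule.subset_span ⟨x', h2, rfl⟩)
  have hfg : (Submodule.span (MvPolynomial (Fin n) L) (mv '' N)).FG := fg_of_saturated_valuationRing NL hNL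
  obtain ⟨T, hT, hspan⟩ := (Submodule.fg_span_iff_fg_span_finset_subset (mv '' N)).1 hfg
  choose g hg hgT using fun t : T => hT t.2
  refine ⟨Finset.univ.image g, by
    intro x hx
    obtain ⟨t, -, rfl⟩ := Finset.mem_image.1 hx
    exact hg t, fun x hx => ?_⟩
  have h1 : mv x ∈ Submodule.span (MvPolynomial (Fin n) L) (Set.range fun t : T => mv (g t)) := by
    have h : mv x ∈ Submodule.span (MvPolynomial (Fin n) L) (mv '' N) := Submodule.subset_span ⟨x, hx, rfl⟩
    rw [hspan] at h
    simpa [hgT] using h
  obtain ⟨p, hp⟩ := (Submodule.mem_span_range_iff_exists_fun _).1 h1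
  choose d hd q hq using fun t => exists_clear_denominators M (p t)
  refine ⟨∏ t, d t, fun h => ?_, ?_⟩
  · obtain ⟨t, -, ht⟩ := (Ideal.IsPrime.prod_mem_iff (p := m)).1 h
    exact hd t ht
  · rw [show (∏ t, d t) • x = ∑ t, ((∏ i ∈ Finset.univ.erase t, d i) • q t) • g t by
      apply hmvinj
      rw [hsm, ← hp, Finset.smul_sum,
        show mv (∑ t, ((∏ i ∈ Finset.univ.erase t, d i) • q t) • g t) = ∑ t, mv (((∏ i ∈ Finset.univ.erase t, d i) • q t) • g t) from
          funext fun j => by simp [mv, Finset.sum_apply]]
      refine Finset.sum_congr rfl fun t ht => ?_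
      rw [hmul, ← Finset.prod_erase_mul _ _ ht, map_mul, ← smul_assoc, mul_smul,
        show algebraMap R L (d t) • p t = mp (q t) from hq t]
      congr 1
      simp only [mp, smul_eq_C_mul, map_mul, map_C]]
    exact Submodule.sum_mem _ fun t _ => Submodule.smul_mem _ _ (Submodule.subset_span (by simp))

include hR in
/-- **Saturated submodules over a polynomial ring over a semilocal Prüfer domain are finitely generated.** -/
theorem fg_of_saturated [Finite (MaximalSpectrum R)]
    (N : Submodule (MvPolynomial (Fin n) R) (Fin s → MvPolynomial (Fin n) R)) (hN : Saturated R N) : N.FG := by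
  classical
  haveI := Fintype.ofFinite (MaximalSpectrum R)
  have hloc : ∀ m : MaximalSpectrum R, ∃ G : Finset (Fin s → MvPolynomial (Fin n) R), (∀ y ∈ G, y ∈ N) ∧
      ∀ x ∈ N, ∃ d ∉ m.asIdeal, d • x ∈ Submodule.span (MvPolynomial (Fin n) R) (G : Set (Fin s → MvPolynomial (Fin n) R)) :=
    fun m => haveI := m.isMaximal.isPrime; exists_local_generators hR N hN m.asIdeal
  choose G hGN hG using hloc
  refine ⟨Finset.univ.biUnion G, le_antisymm (Submodule.span_le.2 ?_) fun x hx => ?_⟩
  · intro y hy
    obtain ⟨m, -, hm⟩ := Finset.mem_biUnion.1 (Finset.mem_coe.1 hy)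
    exact hGN m y hm
  · let S₀ : Submodule R (Fin s → MvPolynomial (Fin n) R) :=
      (Submodule.span (MvPolynomial (Fin n) R) (↑(Finset.univ.biUnion G) : Set (Fin s → MvPolynomial (Fin n) R))).restrictScalars R
    let C : Ideal R := S₀.comap (LinearMap.toSpanSingleton R _ x)
    have hC : C = ⊤ := by
      by_contra h
      obtain ⟨m, hm, hle⟩ := Ideal.exists_le_maximal C h
      obtain ⟨d, hd, hdx⟩ := hG ⟨m, hm⟩ x hx
      refine hd (hle (show d • x ∈ S₀ from Submodule.span_mono ?_ hdx))
      exact Finset.coe_subset.2 (Finset.subset_biUnion_of_mem G (Finset.mem_univ _))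
    have h1 : (1 : R) • x ∈ S₀ := show (1 : R) ∈ C from hC ▸ Submodule.mem_top
    rwa [one_smul] at h1

include hR in
/-- Polynomial rings over semilocal Prüfer domains are coherent. -/
theorem subFP_mvPolynomial [Finite (MaximalSpectrum R)] :
    CAlgUI.SubFP (MvPolynomial (Fin n) R) (MvPolynomial (Fin n) R) := by
  intro I hI
  obtain ⟨k, a, ha⟩ := Submodule.fg_iff_exists_fin_generating_family.1 hI
  let φ : (Fin k → MvPolynomial (Fin n) R) →ₗ[MvPolynomial (Fin n) R] MvPolynomial (Fin n) R :=
    Fintype.linearCombination _ a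
  have hr : LinearMap.range φ = I := by rw [Fintype.range_linearCombination, ha]
  have hsat : Saturated R (LinearMap.ker φ) := fun c x hc hx => by
    rw [LinearMap.mem_ker, LinearMap.map_smul_of_tower, smul_eq_C_mul, mul_eq_zero] at hx
    rcases hx with hx | hx
    · exact absurd (C_eq_zero.1 hx) hc
    · exact hx
  have hker : (LinearMap.ker φ).FG := fg_of_saturated hR _ hsat
  refine Module.finitePresentation_of_surjective ((LinearEquiv.ofEq _ _ hr).toLinearMap ∘ₗ φ.rangeRestrict)
    ((LinearEquiv.ofEq _ _ hr).surjective.comp φ.surjective_rangeRestrict) ?_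
  rwa [LinearEquiv.ker_comp, LinearMap.ker_rangeRestrict]

end Semilocal

end Groth.Agent.PruferCoh
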