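import Mathlib
import Groth.Prelude.Def_CohB1
import Groth.Agent.PruferCoh.Basic

/-!
# Charts of projective space over a ring; coherence for semilocal Prüfer domains
-/

set_option autoImplicit false
set_option linter.style.haveILetI false

universe u

open CategoryTheory AlgebraicGeometry
open HomogeneousLocalization (Away)

namespace Groth.Agent.PruferCoh

noncomputable section

variable (n : ℕ) (k : Type u) [CommRing k]

local notation "𝒜" => CohB1.polyGrading n k
local notation "T" => (MvPolynomial.X : Fin (n + 1) → MvPolynomial (Fin (n + 1)) k)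

theorem X_mem_one (j : Fin (n + 1)) : T j ∈ 𝒜 1 := MvPolynomial.isHomogeneous_X k j

/-- The coordinate `T_j / T_i`. -/
def coord (i j : Fin (n + 1)) : Away 𝒜 (T i) :=
  Away.mk 𝒜 (X_mem_one n k i) 1 (T j) (by rw [one_smul]; exact X_mem_one n k j)

/-- The structure map of the chart. -/
def base (i : Fin (n + 1)) : k →+* Away 𝒜 (T i) :=
  (HomogeneousLocalization.fromZeroRingHom 𝒜 _).comp (algebraMap k (𝒜 0))

/-- Dehomogenisation with respect to `T_i`. -/
def dh₀ (i : Fin (n + 1)) : MvPolynomial (Fin (n + 1)) k →+* Away 𝒜 (T i) :=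
  MvPolynomial.eval₂Hom (base n k i) (coord n k i)

theorem val_base (i : Fin (n + 1)) (c : k) :
    (base n k i c).val = algebraMap (MvPolynomial (Fin (n + 1)) k) _ (MvPolynomial.C c) := by
  show (HomogeneousLocalization.mk _).val = _
  rw [HomogeneousLocalization.val_mk, ← Localization.mk_one_eq_algebraMap]
  rfl

theorem val_coord (i j : Fin (n + 1)) :
    (coord n k i j).val * algebraMap (MvPolynomial (Fin (n + 1)) k) _ (T i) =
      algebraMap (MvPolynomial (Fin (n + 1)) k) (Localization (Submonoid.powers (T i))) (T j) := by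
  rw [coord, HomogeneousLocalization.Away.val_mk, ← Localization.mk_one_eq_algebraMap,
    ← Localization.mk_one_eq_algebraMap, Localization.mk_mul, Localization.mk_eq_mk_iff,
    Localization.r_iff_exists]
  exact ⟨1, by simp [mul_comm]⟩

theorem val_dh₀_mul (i : Fin (n + 1)) {m : ℕ} {x : MvPolynomial (Fin (n + 1)) k}
    (hx : x.IsHomogeneous m) :
    (dh₀ n k i x).val * algebraMap _ _ (T i) ^ m =
      algebraMap (MvPolynomial (Fin (n + 1)) k) (Localization (Submonoid.powers (T i))) x := by
  classical
  let val : Away 𝒜 (T i) →+* Localization (Submonoid.powers (T i)) := algebraMap _ _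
  show val (dh₀ n k i x) * _ = _
  rw [x.as_sum, map_sum, map_sum, map_sum, Finset.sum_mul]
  refine Finset.sum_congr rfl fun d hd => ?_
  have hdeg : ∑ j ∈ d.support, d j = m := by
    have := hx (MvPolynomial.mem_support_iff.1 hd)
    rwa [Finsupp.weight_apply, Finsupp.sum, Finset.sum_congr rfl fun j _ => (by simp : d j • (1 : Fin (n+1) → ℕ) j = d j)] at this
  rw [MvPolynomial.monomial_eq, Finsupp.prod, map_mul, map_mul, map_mul, map_prod, map_prod,
    map_prod, ← hdeg, ← Finset.prod_pow_eq_pow_sum, mul_assoc, ← Finset.prod_mul_distrib]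
  congr 1
  · show val (dh₀ n k i (MvPolynomial.C _)) = _
    rw [dh₀, MvPolynomial.eval₂Hom_C]
    exact val_base n k i _
  · refine Finset.prod_congr rfl fun j _ => ?_
    rw [map_pow, map_pow, map_pow, ← mul_pow]
    congr 1
    rw [dh₀, MvPolynomial.eval₂Hom_X']
    exact val_coord n k i j

theorem surjective_dh₀ (i : Fin (n + 1)) : Function.Surjective (dh₀ n k i) := by
  intro z
  obtain ⟨m, x, hx, rfl⟩ := HomogeneousLocalization.Away.mk_surjective 𝒜 (X_mem_one n k i) z
  refine ⟨x, HomogeneousLocalization.val_injective _ ?_⟩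
  have hu : IsUnit (algebraMap (MvPolynomial (Fin (n + 1)) k)
      (Localization (Submonoid.powers (T i))) (T i) ^ m) :=
    (IsLocalization.map_units _ (⟨T i, 1, pow_one _⟩ : Submonoid.powers (T i))).pow m
  refine hu.mul_left_injective ?_
  show _ * _ = _ * _
  rw [val_dh₀_mul n k i (by simpa using hx), HomogeneousLocalization.Away.val_mk,
    ← map_pow, ← Localization.mk_one_eq_algebraMap, ← Localization.mk_one_eq_algebraMap,
    Localization.mk_mul, Localization.mk_eq_mk_iff, Localization.r_iff_exists]
  exact ⟨1, by simp [mul_comm]⟩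

/-- Affine coordinates of the chart. -/
def fromChart (i : Fin (n + 1)) : MvPolynomial (Fin n) k →+* Away 𝒜 (T i) :=
  MvPolynomial.eval₂Hom (base n k i) fun j => coord n k i (i.succAbove j)

theorem coord_self (i : Fin (n + 1)) : coord n k i i = 1 :=
  HomogeneousLocalization.val_injective _ (by
    rw [HomogeneousLocalization.val_one]
    have h := val_coord n k i i
    have hu : IsUnit (algebraMap (MvPolynomial (Fin (n + 1)) k) (Localization (Submonoid.powers (T i))) (T i)) :=
      IsLocalization.map_units _ (⟨T i, 1, pow_one _⟩ : Submonoid.powers (T i))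
    exact hu.mul_left_injective (h.trans (one_mul _).symm))

/-- Setting `T_i = 1`. -/
def setOne (i : Fin (n + 1)) : MvPolynomial (Fin (n + 1)) k →+* MvPolynomial (Fin n) k :=
  (MvPolynomial.aeval (i.insertNth (1 : MvPolynomial (Fin n) k) MvPolynomial.X)).toRingHom

theorem fromChart_bijective (i : Fin (n + 1)) : Function.Bijective (fromChart n k i) := by
  have hd : (fromChart n k i).comp (setOne n k i) = dh₀ n k i := by
    apply MvPolynomial.ringHom_ext
    · intro c
      simp [fromChart, setOne, dh₀]
    · intro j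
      obtain rfl | ⟨j, rfl⟩ := i.eq_self_or_eq_succAbove j
      · simp [fromChart, setOne, dh₀, coord_self]
      · simp [fromChart, setOne, dh₀]
  have hu : IsUnit (setOne n k i (T i)) := by simp [setOne]
  let L : Localization (Submonoid.powers (T i)) →+* MvPolynomial (Fin n) k :=
    IsLocalization.Away.lift (T i) hu
  let val : Away 𝒜 (T i) →+* Localization (Submonoid.powers (T i)) := algebraMap _ _
  have h : (L.comp val).comp (fromChart n k i) = RingHom.id _ := by
    apply MvPolynomial.ringHom_ext
    · intro c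
      show L (val (fromChart n k i (MvPolynomial.C c))) = _
      rw [fromChart, MvPolynomial.eval₂Hom_C]
      show L ((base n k i c).val) = _
      rw [val_base, IsLocalization.Away.lift_eq]
      simp [setOne]
    · intro j
      show L (val (fromChart n k i (MvPolynomial.X j))) = _
      rw [fromChart, MvPolynomial.eval₂Hom_X']
      have h := congrArg L (val_coord n k i (i.succAbove j))
      rw [map_mul, IsLocalization.Away.lift_eq, IsLocalization.Away.lift_eq] at h
      have h1 : setOne n k i (T i) = 1 := by simp [setOne]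
      rw [h1, mul_one] at h
      show L ((coord n k i (i.succAbove j)).val) = _
      rw [h]
      simp [setOne]
  refine ⟨fun a b hab => ?_, fun z => ?_⟩
  · have := congrArg (L.comp val) hab
    rwa [← RingHom.comp_apply, ← RingHom.comp_apply, h] at this
  · obtain ⟨x, rfl⟩ := surjective_dh₀ n k i z
    exact ⟨setOne n k i x, congr($hd x)⟩

/-- The sections over a chart are a polynomial ring over the base. -/
theorem exists_chart_equiv (i : Fin (n + 1)) :
    ∃ e : MvPolynomial (Fin n) k ≃+* Γ(CohB1.ProjSpace n k, Proj.basicOpen 𝒜 (T i)),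
      ∀ c, e (MvPolynomial.C c) = ((CohB1.ProjSpace.toSpec n k).appLE ⊤ (Proj.basicOpen 𝒜 (T i)) le_top).hom
        ((Scheme.ΓSpecIso (CommRingCat.of k)).inv c) := by
  let f₀ := RingEquiv.ofBijective (fromChart n k i) (fromChart_bijective n k i)
  let a : CommRingCat.of (Away 𝒜 (T i)) ≅ Γ(Proj 𝒜, Proj.basicOpen 𝒜 (T i)) :=
    Proj.basicOpenIsoAway 𝒜 (T i) (X_mem_one n k i) Nat.one_pos
  refine ⟨f₀.trans a.commRingCatIsoToRingEquiv, fun c => ?_⟩
  show a.hom (fromChart n k i (MvPolynomial.C c)) = _
  rw [fromChart, MvPolynomial.eval₂Hom_C]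
  let D := Proj.basicOpen 𝒜 (T i)
  have hD : IsAffineOpen D := Proj.isAffineOpen_basicOpen 𝒜 (T i) (X_mem_one n k i) Nat.one_pos
  have h1 : D.ι ≫ CohB1.ProjSpace.toSpec n k =
      Proj.basicOpenToSpec 𝒜 (T i) ≫ Spec.map (CommRingCat.ofHom (base n k i)) := by
    rw [← Proj.basicOpenIsoSpec_hom 𝒜 (T i) (X_mem_one n k i) Nat.one_pos, ← Iso.inv_comp_eq, ← Category.assoc,
      Proj.basicOpenIsoSpec_inv_ι]
    show Proj.awayι 𝒜 (T i) (X_mem_one n k i) Nat.one_pos ≫ Proj.toSpecZero 𝒜 ≫ _ = _
    rw [← Category.assoc, Proj.awayι_toSpecZero, ← Spec.map_comp]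
    rfl
  have h2 : hD.fromSpec ≫ CohB1.ProjSpace.toSpec n k =
      Spec.map (CommRingCat.ofHom (base n k i) ≫ a.hom) := by
    rw [IsAffineOpen.fromSpec, Category.assoc]
    erw [h1]
    rw [Iso.inv_comp_eq, Spec.map_comp]
    show _ = hD.isoSpec.hom ≫ Spec.map a.hom ≫ _
    rw [IsAffineOpen.isoSpec_hom, Proj.basicOpenToSpec, Category.assoc]
    rfl
  have h3 := IsAffineOpen.SpecMap_appLE_fromSpec (CohB1.ProjSpace.toSpec n k) (isAffineOpen_top _) hD
    (le_top : D ≤ CohB1.ProjSpace.toSpec n k ⁻¹ᵁ ⊤)
  have h3' := h3.trans h2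
  rw [IsAffineOpen.fromSpec_top, Scheme.isoSpec_Spec_inv, ← Spec.map_comp] at h3'
  have h4 := Spec.map_injective h3'
  exact (congrArg (fun φ => φ.hom c) h4).symm

end

end Groth.Agent.PruferCoh
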