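import Mathlib
import Groth.Agent.CAlgUI.Coherent
import Groth.Agent.PruferCoh.Basic

/-!
# Coherent rings: transfer along surjections; flat quotients of polynomial rings
-/

set_option autoImplicit false
set_option linter.style.haveILetI false

universe u v

namespace Groth.Agent.PruferCoh

section Transfer

variable {P B : Type u} [CommRing P] [CommRing B] [Algebra P B]
  (hs : Function.Surjective (algebraMap P B))

include hs in
/-- Finite presentation descends along surjective ring maps. -/
theorem finitePresentation_of_restrictScalars (M : Type v) [AddCommGroup M] [Module P M] [Module B M]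
    [IsScalarTower P B M] [Module.FinitePresentation P M] : Module.FinitePresentation B M := by
  haveI : Module.Finite B M := Module.Finite.of_restrictScalars_finite P B M
  obtain ⟨k, π, hπ⟩ := Module.Finite.exists_fin' B M
  let q : (Fin k → P) →ₗ[P] (Fin k → B) :=
    LinearMap.pi fun i => (Algebra.linearMap P B).comp (LinearMap.proj i)
  have hq : Function.Surjective q := fun y => by
    choose x hx using fun i => hs (y i)
    exact ⟨x, funext hx⟩
  let π' : (Fin k → B) →ₗ[P] M := π.restrictScalars P
  have h : (LinearMap.ker (π'.comp q)).FG :=
    Module.FinitePresentation.fg_ker (π'.comp q) (hπ.comp hq)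
  have he : (LinearMap.ker π).restrictScalars P = (LinearMap.ker (π'.comp q)).map q := by
    rw [LinearMap.ker_comp, Submodule.map_comap_eq_of_surjective hq]
    rfl
  have hfg : ((LinearMap.ker π).restrictScalars P).FG := he ▸ h.map q
  exact Module.finitePresentation_of_surjective π hπ (Submodule.FG.of_restrictScalars P hfg)

include hs in
/-- Coherence passes to quotients by finitely generated ideals. -/
theorem subFP_quotient (hK : (RingHom.ker (algebraMap P B)).FG) (hP : CAlgUI.SubFP P P) :
    CAlgUI.SubFP B B := by
  intro N hN
  have hB : CAlgUI.SubFP P B := CAlgUI.subFP_of_surjective (Algebra.linearMap P B) hs hK hP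
  haveI : Module.FinitePresentation P N := hB (N.restrictScalars P) (hN.restrictScalars_of_surjective hs)
  exact finitePresentation_of_restrictScalars hs N

end Transfer

/-- Coherence along ring isomorphisms. -/
theorem subFP_of_ringEquiv {P B : Type u} [CommRing P] [CommRing B] (e : P ≃+* B)
    (hP : CAlgUI.SubFP P P) : CAlgUI.SubFP B B := by
  letI : Algebra P B := e.toRingHom.toAlgebra
  refine subFP_quotient (P := P) (B := B) e.surjective ?_ hP
  have h : RingHom.ker (algebraMap P B) = ⊥ :=
    (RingHom.injective_iff_ker_eq_bot _).1 e.injective
  rw [h]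
  exact Submodule.fg_bot

/-- The kernel of a map from a polynomial ring over a semilocal Prüfer domain onto a flat algebra
is finitely generated. -/
theorem fg_ker_of_flat {R : Type u} [CommRing R] [IsDomain R] [Finite (MaximalSpectrum R)]
    (hR : ∀ (p : Ideal R) [p.IsPrime], ValuationRing (Localization.AtPrime p)) {n : ℕ}
    {B : Type u} [CommRing B] (φ : MvPolynomial (Fin n) R →+* B)
    (hφ : (φ.comp MvPolynomial.C).Flat) : (RingHom.ker φ).FG := by
  letI : Algebra R B := (φ.comp MvPolynomial.C).toAlgebra
  haveI : Module.Flat R B := hφ
  let J : Submodule (MvPolynomial (Fin n) R) (MvPolynomial (Fin n) R) := RingHom.ker φ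
  let p : (Fin 1 → MvPolynomial (Fin n) R) →ₗ[MvPolynomial (Fin n) R] MvPolynomial (Fin n) R :=
    LinearMap.proj 0
  have hp : Function.Surjective p := fun x => ⟨fun _ => x, rfl⟩
  have hsat : Saturated R (J.comap p) := fun c x hc hx => by
    have hx' : φ (c • x 0) = 0 := hx
    rw [MvPolynomial.smul_eq_C_mul, map_mul] at hx'
    have hreg : IsSMulRegular B (algebraMap R B c) :=
      IsSMulRegular.of_flat (IsRegular.of_ne_zero hc).left
    exact hreg (show algebraMap R B c • φ (x 0) = algebraMap R B c • 0 by
      rw [smul_zero, smul_eq_mul]; exact hx')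
  have h := (fg_of_saturated hR (J.comap p) hsat).map p
  rwa [Submodule.map_comap_eq_of_surjective hp] at h

end Groth.Agent.PruferCoh
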