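import Groth.Agent.PnCoh.Finite.SerreVanishing
import Groth.Agent.QCoh.Support
import Groth.Agent.CAlgUI.Coherent

/-!
# Serre vanishing on `Proj` with coherent charts
-/

set_option autoImplicit false

universe u

open CategoryTheory CategoryTheory.Limits AlgebraicGeometry TopologicalSpace Opposite

namespace Groth.Agent.PruferCoh

open Groth.Agent.PnCoh Groth.Agent.PnCoh.Finite

attribute [local instance] Abelian.hasFiniteBiproducts

/-- Kernels keep finitely presented sections over a coherent ring of functions. -/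
theorem finitePresentation_X₁ {X : Scheme.{u}} {S : ShortComplex X.Modules} (hS : S.ShortExact)
    (h₁ : Coh.IsQCoh S.X₁) {U : X.Opens} (hU : IsAffineOpen U)
    (h₂ : Module.FinitePresentation Γ(X, U) Γ(S.X₂, U))
    (h₃ : Module.FinitePresentation Γ(X, U) Γ(S.X₃, U))
    (hcoh : CAlgUI.SubFP Γ(X, U) Γ(X, U)) : Module.FinitePresentation Γ(X, U) Γ(S.X₁, U) := by
  haveI := h₂
  haveI := h₃
  let fl : Γ(S.X₁, U) →ₗ[Γ(X, U)] Γ(S.X₂, U) :=
    { toFun := S.f.app U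
      map_add' := map_add _
      map_smul' := fun r x => Scheme.Modules.Hom.app_smul S.f r x }
  let gl : Γ(S.X₂, U) →ₗ[Γ(X, U)] Γ(S.X₃, U) :=
    { toFun := S.g.app U
      map_add' := map_add _
      map_smul' := fun r x => Scheme.Modules.Hom.app_smul S.g r x }
  have hker : (LinearMap.ker gl).FG :=
    Module.FinitePresentation.fg_ker gl (QCoh.app_surjective_of_shortExact hS h₁ hU)
  haveI : Module.FinitePresentation Γ(X, U) (LinearMap.ker gl) :=
    CAlgUI.subFP_of_finitePresentation hcoh _ _ hker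
  have hr : LinearMap.range fl = LinearMap.ker gl := by
    ext x
    constructor
    · rintro ⟨a, rfl⟩
      exact QCoh.app_g_f U a
    · intro hx
      obtain ⟨a, ha⟩ := QCoh.exists_app_f_eq hS U x hx
      exact ⟨a, ha⟩
  let e : Γ(S.X₁, U) ≃ₗ[Γ(X, U)] LinearMap.ker gl :=
    (LinearEquiv.ofInjective fl (QCoh.app_f_injective hS U)).trans (LinearEquiv.ofEq _ _ hr)
  exact Module.FinitePresentation.of_equiv e.symm

variable {R A : Type u} [CommRing R] [CommRing A] [Algebra R A]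
  {𝒜 : ℕ → Submodule R A} [GradedAlgebra 𝒜] {κ : Type u} {f : κ → A}

/-- Quasi-coherent with finitely presented sections on the given opens. -/
def GoodFP (f : κ → A) (F : (Proj 𝒜).Modules) : Prop :=
  Coh.IsQCoh F ∧ ∀ j, Module.FinitePresentation Γ(Proj 𝒜, D 𝒜 (f j)) Γ(F, D 𝒜 (f j))

theorem finitePresentation_twist_sections (hf : ∀ i, f i ∈ 𝒜 1) (d : ℤ) (j : κ) :
    Module.FinitePresentation Γ(Proj 𝒜, D 𝒜 (f j)) Γ(Twist.twist 𝒜 d, D 𝒜 (f j)) :=
  Module.FinitePresentation.of_equiv (LinearEquiv.ofBijective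
    (LinearMap.toSpanSingleton Γ(Proj 𝒜, D 𝒜 (f j)) Γ(Twist.twist 𝒜 d, D 𝒜 (f j))
      (twPow (hf j) d (nonVan_of_le (le_refl (D 𝒜 (f j))))))
    (trivMap_bijective (hf j) d _))

theorem finitePresentation_sections_biproduct {β : Type u} [Fintype β] (T : β → (Proj 𝒜).Modules)
    (U : (Proj 𝒜).Opens) (h : ∀ b, Module.FinitePresentation Γ(Proj 𝒜, U) Γ(T b, U)) :
    Module.FinitePresentation Γ(Proj 𝒜, U) Γ(⨁ T, U) := by
  classical
  haveI := h
  let L : (∀ b, Γ(T b, U)) →ₗ[Γ(Proj 𝒜, U)] Γ(⨁ T, U) :=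
    ∑ b, (appLin (biproduct.ι T b) U).comp (LinearMap.proj b)
  let P : Γ(⨁ T, U) →ₗ[Γ(Proj 𝒜, U)] (∀ b, Γ(T b, U)) :=
    LinearMap.pi fun b => appLin (biproduct.π T b) U
  have hLP : ∀ x, L (P x) = x := fun x => by
    show L (fun b => (biproduct.π T b).app U x) = x
    rw [LinearMap.sum_apply]
    have h2 : ∀ s : Finset β,
        ∑ b ∈ s, (biproduct.π T b ≫ biproduct.ι T b).app U x =
          (∑ b ∈ s, biproduct.π T b ≫ biproduct.ι T b).app U x := fun s => by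
      induction s using Finset.induction with
      | empty => rw [Finset.sum_empty, Finset.sum_empty]; rfl
      | insert a s ha ih => rw [Finset.sum_insert ha, Finset.sum_insert ha, ih]; rfl
    refine (h2 Finset.univ).trans ?_
    rw [Finite.biproduct_total]
    rfl
  refine Module.finitePresentation_of_surjective L (fun x => ⟨P x, hLP x⟩) ?_
  have hk : LinearMap.ker L = LinearMap.range (LinearMap.id - P.comp L) := by
    ext y
    constructor
    · intro hy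
      refine ⟨y, ?_⟩
      rw [LinearMap.mem_ker] at hy
      rw [LinearMap.sub_apply, LinearMap.id_apply, LinearMap.comp_apply, hy, map_zero, sub_zero]
    · rintro ⟨z, rfl⟩
      rw [LinearMap.mem_ker, LinearMap.sub_apply, LinearMap.id_apply, LinearMap.comp_apply, map_sub,
        hLP, sub_self]
  rw [hk, ← Submodule.map_top]
  exact (Module.Finite.fg_top).map _

/-- A finitely presented module is a quotient of a finite sum of twists, with such a kernel. -/
theorem exists_presentation [Finite κ] (hf : ∀ i, f i ∈ 𝒜 1) (hcov : ⨆ j, D 𝒜 (f j) = ⊤)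
    (hcoh : ∀ j, CAlgUI.SubFP Γ(Proj 𝒜, D 𝒜 (f j)) Γ(Proj 𝒜, D 𝒜 (f j)))
    {F : (Proj 𝒜).Modules} (hF : GoodFP f F) :
    ∃ (ι : Type u) (_ : Fintype ι) (d : ι → ℤ) (S : ShortComplex (Proj 𝒜).Modules)
      (p : ∀ a, S.X₂ ⟶ Twist.twist 𝒜 (d a)) (q : ∀ a, Twist.twist 𝒜 (d a) ⟶ S.X₂),
      S.ShortExact ∧ S.X₃ = F ∧ GoodFP f S.X₁ ∧ ∑ a, p a ≫ q a = 𝟙 S.X₂ := by
  classical
  haveI := Fintype.ofFinite κ
  choose m w hw using fun j => (haveI := hF.2 j; Module.Finite.exists_fin (R := Γ(Proj 𝒜, D 𝒜 (f j))) (M := Γ(F, D 𝒜 (f j))))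
  have hfam : ∀ j (a : Fin (m j)), ∃ (k : ℕ) (ψ : Twist.twist 𝒜 (-(k : ℤ)) ⟶ F),
      ∃ τ, ψ.app (D 𝒜 (f j)) τ = w j a := fun j a => by
    obtain ⟨k, t, hti, hcompat⟩ := exists_family hf hF.1 (isAffineOpen_D hf) (isAffineOpen_D₂ hf) j
      (w j a)
    exact ⟨k, homOfFamily hf k t hcompat hcov, hti ▸ mem_range_homOfFamily hf k t hcompat hcov j⟩
  choose k ψ τ hτ using hfam
  let T : (Σ j, Fin (m j)) → (Proj 𝒜).Modules := fun b => Twist.twist 𝒜 (-(k b.1 b.2 : ℤ))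
  let φ : (⨁ T) ⟶ F := biproduct.desc fun b => ψ b.1 b.2
  haveI : Epi φ := epi_desc hf hcov hF.1 T (fun b => ψ b.1 b.2) fun j =>
    le_antisymm le_top ((hw j).ge.trans (Submodule.span_mono (by
      rintro _ ⟨a, rfl⟩
      exact ⟨⟨j, a⟩, τ j a, hτ j a⟩)))
  let S : ShortComplex (Proj 𝒜).Modules := ShortComplex.mk (kernel.ι φ) φ (kernel.condition φ)
  have hS : S.ShortExact :=
    { exact := ShortComplex.exact_of_f_is_kernel _ (kernelIsKernel φ) }
  have hE : Coh.IsQCoh (⨁ T) :=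
    isQCoh_biproduct T fun b => isQCoh_twist f hf hcov _
  have hK : Coh.IsQCoh S.X₁ := QCoh.isQCoh_kernel hE hF.1 φ
  refine ⟨Σ j, Fin (m j), inferInstance, fun b => -(k b.1 b.2 : ℤ), S, biproduct.π T,
    biproduct.ι T, hS, rfl, ⟨hK, fun j => ?_⟩, Finite.biproduct_total T⟩
  exact finitePresentation_X₁ hS hK (isAffineOpen_D hf j)
    (finitePresentation_sections_biproduct T _ fun b => finitePresentation_twist_sections hf _ j)
    (hF.2 j) (hcoh j)

theorem isQCoh_twistF [Finite κ] (hf : ∀ i, f i ∈ 𝒜 1) (hcov : ⨆ j, D 𝒜 (f j) = ⊤)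
    (hcoh : ∀ j, CAlgUI.SubFP Γ(Proj 𝒜, D 𝒜 (f j)) Γ(Proj 𝒜, D 𝒜 (f j)))
    {F : (Proj 𝒜).Modules} (hF : GoodFP f F) (d : ℤ) : Coh.IsQCoh ((twistF d).obj F) := by
  obtain ⟨ι, _, e, S, p, q, hS, rfl, hK, hpq⟩ := exists_presentation hf hcov hcoh hF
  obtain ⟨ι', _, e', S', p', q', hS', hS'₃, -, hpq'⟩ := exists_presentation hf hcov hcoh hK
  have hSd : (S.map (twistF d)).ShortExact := shortExact_twistBy f hf hcov d hS
  have hSd' : (S'.map (twistF d)).ShortExact := shortExact_twistBy f hf hcov d hS'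
  let π : (twistF d).obj S'.X₂ ⟶ (twistF d).obj S.X₁ :=
    (twistF d).map S'.g ≫ eqToHom (congrArg (twistF d).obj hS'₃)
  haveI : Epi ((twistF d).map S'.g) := hSd'.epi_g
  haveI : Epi π := epi_comp _ _
  have hc := QCoh.isQCoh_cokernel (isQCoh_twistF_of_decomposition hf hcov e' p' q' hpq' d)
    (isQCoh_twistF_of_decomposition hf hcov e p q hpq d) (π ≫ (twistF d).map S.f)
  exact (QCoh.isQCoh_iff_iso ((cokernelEpiComp π ((twistF d).map S.f)) ≪≫
    (cokernelIsCokernel _).coconePointUniqueUpToIso hSd.gIsCokernel)).1 hc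

/-- Serre vanishing by descending induction. -/
theorem exists_vanishing [Finite κ] (hf : ∀ i, f i ∈ 𝒜 1) (hcov : ⨆ j, D 𝒜 (f j) = ⊤)
    (hcoh : ∀ j, CAlgUI.SubFP Γ(Proj 𝒜, D 𝒜 (f j)) Γ(Proj 𝒜, D 𝒜 (f j)))
    (N : ℕ) (hvan : ∀ M : (Proj 𝒜).Modules, Coh.IsQCoh M → ∀ i, N ≤ i →
      Subsingleton (Coh.HH (Proj 𝒜) M i))
    (htw : ∀ i, 0 < i → ∃ d₀ : ℤ, ∀ d, d₀ ≤ d →
      Subsingleton (Coh.HH (Proj 𝒜) (Twist.twist 𝒜 d) i))
    (F : (Proj 𝒜).Modules) (hF : GoodFP f F) :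
    ∃ d₀ : ℤ, ∀ d, d₀ ≤ d → ∀ i, 0 < i → Subsingleton (Coh.HH (Proj 𝒜) ((twistF d).obj F) i) := by
  suffices h : ∀ m, ∀ F : (Proj 𝒜).Modules, GoodFP f F → ∃ d₀ : ℤ, ∀ d, d₀ ≤ d → ∀ i, 0 < i →
      N ≤ i + m → Subsingleton (Coh.HH (Proj 𝒜) ((twistF d).obj F) i) by
    obtain ⟨d₀, hd₀⟩ := h N F hF
    exact ⟨d₀, fun d hd i hi => hd₀ d hd i hi (Nat.le_add_left _ _)⟩
  intro m
  induction m with
  | zero => exact fun F hF => ⟨0, fun d _ i _ hi => hvan _ (isQCoh_twistF hf hcov hcoh hF d) i hi⟩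
  | succ m ih =>
    intro F hF
    obtain ⟨ι, _, e, S, p, q, hS, rfl, hK, hpq⟩ := exists_presentation hf hcov hcoh hF
    obtain ⟨d₁, hd₁⟩ := ih S.X₁ hK
    choose e₀ he₀ using htw
    let E : ℤ := ∑ i ∈ Finset.range (N + 1), |if h : 0 < i then e₀ i h else 0|
    refine ⟨max (max d₁ 0) (E + ∑ a, |e a|), fun d hd i hi hN => ?_⟩
    by_cases hiN : N ≤ i
    · exact hvan _ (isQCoh_twistF hf hcov hcoh hF d) i hiN
    have hd1 : d₁ ≤ d := le_trans (le_trans (le_max_left _ _) (le_max_left _ _)) hd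
    have hd2 : E + ∑ a, |e a| ≤ d := le_trans (le_max_right _ _) hd
    obtain ⟨p', q', h'⟩ := exists_twisted_decomposition hf hcov e p q hpq d
    refine subsingleton_HH_X₃ (shortExact_twistBy f hf hcov d hS) i
      (subsingleton_HH_of_decomposition (fun a => Twist.twist 𝒜 (e a + d)) p' q' h' i
        fun a => he₀ i hi _ ?_) (hd₁ d hd1 (i + 1) (Nat.succ_pos _) (by omega))
    have h1 : |e a| ≤ ∑ b, |e b| :=
      Finset.single_le_sum (f := fun b => |e b|) (fun b _ => abs_nonneg _) (Finset.mem_univ a)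
    have h2 := neg_abs_le (e a)
    have h3 : |e₀ i hi| ≤ E := by
      refine le_trans ?_ (Finset.single_le_sum (f := fun i => |if h : 0 < i then e₀ i h else 0|)
        (fun b _ => abs_nonneg _) (Finset.mem_range.2 (by omega : i < N + 1)))
      rw [dif_pos hi]
    have h4 := le_abs_self (e₀ i hi)
    omega

end Groth.Agent.PruferCoh
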