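import Groth.Prelude.Def_CohB1
import Groth.Agent.PruferCoh.Ring
import Groth.Agent.PruferCoh.Chart
import Groth.Agent.PruferCoh.Sheaf
import Groth.Agent.PnCoh.Finite.ProjSpace
import Groth.Agent.PnCoh.Finite.TwistInv
import Groth.Agent.PnCoh.PushNat
import Groth.Agent.KFlatLib.Scheme.ProjModule
import Groth.Agent.PicClLib.Basic
import Groth.Agent.QCoh.Qcqs
import Groth.Agent.QCoh.HHExact
import Groth.Agent.QCoh.FT
import Groth.Agent.QCoh.Pullback

/-!
# Flat closed subschemes of projective space over semilocal Prüfer domains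
-/

set_option autoImplicit false
set_option linter.style.haveILetI false

universe u

open CategoryTheory CategoryTheory.Limits AlgebraicGeometry

noncomputable section

namespace Groth.Agent.PruferCoh

open Groth.Agent.PnCoh Groth.Agent.PnCoh.Finite

variable (k : ℕ) (R : Type u) [CommRing R]

local notation "𝒢" => CohB1.polyGrading k R

/-- The coordinates. -/
def Xs : ULift.{u} (Fin (k + 1)) → MvPolynomial (Fin (k + 1)) R := fun j => MvPolynomial.X j.down

theorem Xs_mem (j : ULift.{u} (Fin (k + 1))) : Xs k R j ∈ 𝒢 1 :=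
  MvPolynomial.isHomogeneous_X R j.down

theorem iSup_Xs : ⨆ j, D 𝒢 (Xs k R j) = ⊤ := by
  refine top_le_iff.1 ?_
  refine le_trans (iSup_mOpen_single (ι := Fin (k + 1)) (R := R)).ge ?_
  refine iSup_le fun j => ?_
  exact le_iSup_of_le (ULift.up j) le_rfl

theorem hvan (M : (Proj 𝒢).Modules) (hM : Coh.IsQCoh M) (q : ℕ) (hq : k + 1 ≤ q) :
    Subsingleton (Coh.HH (Proj 𝒢) M q) :=
  QCoh.HH_subsingleton_of_cover (X := Proj 𝒢) (k + 1)
    (fun j => D 𝒢 (Xs k R (ULift.up j)))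
    (fun j => isAffineOpen_D (Xs_mem k R) _)
    (top_le_iff.1 ((iSup_Xs k R).ge.trans (iSup_le fun j => le_iSup_of_le j.down le_rfl)))
    (fun V W hV hW => IsAffineOpen.inf hV hW) hM q hq

theorem htw (i : ℕ) (hi : 0 < i) : ∃ d₀ : ℤ, ∀ d, d₀ ≤ d →
    Subsingleton (Coh.HH (Proj 𝒢) (Twist.twist 𝒢 d) i) :=
  ⟨0, fun d hd => S0844.result R k d i (fun h => by omega) fun h => by omega⟩

variable {k R}

theorem subFP_chart [IsDomain R] [Finite (MaximalSpectrum R)]
    (hR : ∀ (p : Ideal R) [p.IsPrime], ValuationRing (Localization.AtPrime p))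
    (j : ULift.{u} (Fin (k + 1))) :
    CAlgUI.SubFP Γ(Proj 𝒢, D 𝒢 (Xs k R j)) Γ(Proj 𝒢, D 𝒢 (Xs k R j)) := by
  obtain ⟨e, -⟩ := exists_chart_equiv k R j.down
  exact subFP_of_ringEquiv e (subFP_mvPolynomial hR)

/-- Finitely presented modules on a flat closed subscheme push forward to modules with finitely
presented sections. -/
theorem goodFP_push [IsDomain R] [Finite (MaximalSpectrum R)]
    (hR : ∀ (p : Ideal R) [p.IsPrime], ValuationRing (Localization.AtPrime p))
    {X : Scheme.{u}} (ι : X ⟶ CohB1.ProjSpace k R) [IsClosedImmersion ι]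
    [Flat (ι ≫ CohB1.ProjSpace.toSpec k R)] {F : X.Modules} (hF : CohB1.IsFP F) :
    GoodFP (Xs k R) ((Scheme.Modules.pushforward ι).obj F) := by
  refine ⟨QCoh.isQCoh_pushforward ι (QCoh.isQCoh_of_isFP hF), fun j => ?_⟩
  let U : (CohB1.ProjSpace k R).Opens := D 𝒢 (Xs k R j)
  have hU : IsAffineOpen U := isAffineOpen_D (Xs_mem k R) j
  have hι : IsAffineHom ι := inferInstance
  have hV : IsAffineOpen (ι ⁻¹ᵁ U) := @IsAffineOpen.preimage X _ _ hU ι hι
  obtain ⟨e, he⟩ := exists_chart_equiv k R j.down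
  let φ : Γ(CohB1.ProjSpace k R, U) →+* Γ(X, ι ⁻¹ᵁ U) := (ι.app U).hom
  have hs : Function.Surjective φ := ι.app_surjective U hU
  have hflat : ((φ.comp e.toRingHom).comp MvPolynomial.C).Flat := by
    have h : (φ.comp e.toRingHom).comp MvPolynomial.C =
        (((ι ≫ CohB1.ProjSpace.toSpec k R).appLE ⊤ (ι ⁻¹ᵁ U) le_top).hom).comp
          (Scheme.ΓSpecIso (CommRingCat.of R)).commRingCatIsoToRingEquiv.symm.toRingHom := by
      refine RingHom.ext fun c => ?_
      show φ (e (MvPolynomial.C c)) = _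
      rw [he c]
      have h1 := Scheme.Hom.appLE_comp_appLE ι (CohB1.ProjSpace.toSpec k R) ⊤ U (ι ⁻¹ᵁ U) le_top le_rfl
      rw [← Scheme.Hom.app_eq_appLE] at h1
      exact congrArg (fun g => g.hom ((Scheme.ΓSpecIso (CommRingCat.of R)).inv c)) h1
    rw [h]
    exact RingHom.Flat.comp (RingHom.Flat.of_bijective (RingEquiv.bijective _))
      ((ι ≫ CohB1.ProjSpace.toSpec k R).flat_appLE (isAffineOpen_top _) hV _)
  have hK : (RingHom.ker φ).FG := by
    have h1 := (fg_ker_of_flat hR (φ.comp e.toRingHom) hflat).map e.toRingHom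
    have h2 : (RingHom.ker (φ.comp e.toRingHom)).map e.toRingHom = RingHom.ker φ := by
      exact (congrArg (Ideal.map e.toRingHom) (RingHom.comap_ker φ e.toRingHom).symm).trans
        (Ideal.map_comap_of_surjective e.toRingHom e.surjective _)
    rwa [h2] at h1
  letI : Algebra Γ(CohB1.ProjSpace k R, U) Γ(X, ι ⁻¹ᵁ U) := φ.toAlgebra
  haveI : Module.FinitePresentation Γ(CohB1.ProjSpace k R, U) Γ(X, ι ⁻¹ᵁ U) :=
    Module.finitePresentation_of_surjective (Algebra.linearMap _ _) hs hK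
  haveI := QCoh.finitePresentation_of_isFP hF hV
  letI : Module Γ(CohB1.ProjSpace k R, U) Γ(F, ι ⁻¹ᵁ U) := Module.compHom _ φ
  haveI : IsScalarTower Γ(CohB1.ProjSpace k R, U) Γ(X, ι ⁻¹ᵁ U) Γ(F, ι ⁻¹ᵁ U) :=
    ⟨fun a b c => mul_smul (φ a) b c⟩
  haveI : Module.FinitePresentation Γ(CohB1.ProjSpace k R, U) Γ(F, ι ⁻¹ᵁ U) :=
    Module.FinitePresentation.trans _ _ Γ(X, ι ⁻¹ᵁ U)
  let E : Γ(F, ι ⁻¹ᵁ U) ≃ₗ[Γ(CohB1.ProjSpace k R, U)]
      Γ((Scheme.Modules.pushforward ι).obj F, U) :=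
    { toFun := fun x => x
      invFun := fun x => x
      left_inv := fun _ => rfl
      right_inv := fun _ => rfl
      map_add' := fun _ _ => rfl
      map_smul' := fun _ _ => rfl }
  show Module.FinitePresentation Γ(CohB1.ProjSpace k R, U) Γ((Scheme.Modules.pushforward ι).obj F, U)
  exact Module.FinitePresentation.of_equiv E

variable {X : Scheme.{u}} (ι : X ⟶ CohB1.ProjSpace k R)

/-- `O_X(1)`. -/
abbrev oneX : X.Modules := (Scheme.Modules.pullback ι).obj (Twist.twistProjSpace k R 1)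

theorem nonempty_pullback_twist (n : ℕ) :
    Nonempty ((Scheme.Modules.pullback ι).obj (Twist.twist 𝒢 (n : ℤ)) ≅ CohB1.tensorPow (oneX ι) n) := by
  suffices h : Nonempty ((Scheme.Modules.pullback ι).obj (CohB1.tensorPow (Twist.twist 𝒢 1) n) ≅
      CohB1.tensorPow (oneX ι) n) by
    obtain ⟨e⟩ := twist_tensorPow_iso (Xs k R) (Xs_mem k R) (iSup_Xs k R) n
    exact ⟨(Scheme.Modules.pullback ι).mapIso e ≪≫ h.some⟩
  induction n with
  | zero => exact PicClLib.nonempty_pullback_structureModule ι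
  | succ n ih =>
    exact ⟨((KFlatLib.pullTensorBiIso ι).app (CohB1.tensorPow (Twist.twist 𝒢 1) n)).app
      (Twist.twist 𝒢 1) ≪≫ (DCoh.tensorBi.mapIso ih.some).app _⟩

theorem isQCoh_tensor_twist (n : ℕ) {F : X.Modules} (hF : Coh.IsQCoh F) :
    Coh.IsQCoh ((DCoh.tensorBi.obj F).obj (CohB1.tensorPow (oneX ι) n)) :=
  KFlatLib.isQCoh_tensor hF ((QCoh.isQCoh_iff_iso (nonempty_pullback_twist ι n).some).1
    (QCoh.isQCoh_pullback ι (isQCoh_twist (Xs k R) (Xs_mem k R) (iSup_Xs k R) _)))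

variable [IsClosedImmersion ι]

/-- The projection formula for twists. -/
theorem nonempty_push_twist (n : ℕ) (F : X.Modules) :
    Nonempty ((twistF (𝒜 := CohB1.polyGrading k R) (n : ℤ)).obj ((Scheme.Modules.pushforward ι).obj F) ≅
      (Scheme.Modules.pushforward ι).obj ((DCoh.tensorBi.obj F).obj (CohB1.tensorPow (oneX ι) n))) := by
  exact ⟨@asIso _ _ _ _ _ (KFlatLib.isIso_projMod_of_isClosedImmersion ι F (Twist.twist 𝒢 (n : ℤ))) ≪≫
    (Scheme.Modules.pushforward ι).mapIso ((DCoh.tensorBi.obj F).mapIso (nonempty_pullback_twist ι n).some)⟩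

/-- Vanishing transferred to the closed subscheme. -/
theorem subsingleton_HH_tensor (n : ℕ) {F : X.Modules} (hF : Coh.IsQCoh F) (q : ℕ)
    (h : Subsingleton (Coh.HH (CohB1.ProjSpace k R)
      ((twistF (𝒜 := CohB1.polyGrading k R) (n : ℤ)).obj ((Scheme.Modules.pushforward ι).obj F)) q)) :
    Subsingleton (Coh.HH X (CohB1.tensorMod F (CohB1.tensorPow (oneX ι) n)) q) := by
  obtain ⟨e⟩ := nonempty_push_twist ι n F
  have h' : Subsingleton (Coh.HH (CohB1.ProjSpace k R)
      ((Scheme.Modules.pushforward ι).obj ((DCoh.tensorBi.obj F).obj (CohB1.tensorPow (oneX ι) n))) q) :=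
    subsingleton_HH_of_decomposition (ι := PUnit.{1})
      (fun _ => (twistF (𝒜 := CohB1.polyGrading k R) (n : ℤ)).obj ((Scheme.Modules.pushforward ι).obj F))
      (fun _ => e.inv) (fun _ => e.hom) (by simp) q fun _ => h
  letI : X.Over (Spec (CommRingCat.of R)) :=
    ⟨ι ≫ (CohB1.ProjSpace k R ↘ Spec (CommRingCat.of R))⟩
  obtain ⟨el⟩ := exists_linearEquiv_push R ι rfl (isQCoh_tensor_twist ι n hF) q
  exact el.toEquiv.subsingleton_congr.2 h'

/-- Serre vanishing. -/
theorem exists_vanishing_closed [IsDomain R] [Finite (MaximalSpectrum R)]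
    (hR : ∀ (p : Ideal R) [p.IsPrime], ValuationRing (Localization.AtPrime p))
    [Flat (ι ≫ CohB1.ProjSpace.toSpec k R)] {F : X.Modules} (hF : CohB1.IsFP F) :
    ∃ N : ℕ, ∀ n : ℕ, N ≤ n → ∀ q : ℕ, 1 ≤ q →
      Subsingleton (Coh.HH X (CohB1.tensorMod F (CohB1.tensorPow (oneX ι) n)) q) := by
  obtain ⟨d₀, hd₀⟩ := exists_vanishing (Xs_mem k R) (iSup_Xs k R) (subFP_chart hR) (k + 1) (hvan k R)
    (htw k R) _ (goodFP_push hR ι hF)
  exact ⟨d₀.toNat, fun n hn q hq =>
    subsingleton_HH_tensor ι n (QCoh.isQCoh_of_isFP hF) q (hd₀ n (by omega) q hq)⟩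

/-- Surjectivity transferred along the projection formula. -/
theorem surjective_twist_push (n : ℕ) {F G : X.Modules} (φ : F ⟶ G)
    (h : Function.Surjective (((twistF (𝒜 := CohB1.polyGrading k R) (n : ℤ)).map
      ((Scheme.Modules.pushforward ι).map φ)).app ⊤)) :
    Function.Surjective (((DCoh.tensorBi.map φ).app (CohB1.tensorPow (oneX ι) n)).app ⊤) := by
  obtain ⟨c⟩ := nonempty_pullback_twist ι n
  have hiso := KFlatLib.isIso_projMod_of_isClosedImmersion ι G (Twist.twist 𝒢 (n : ℤ))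
  let pG := @asIso _ _ _ _ _ hiso
  have hsq := KFlatLib.projMod_naturality_left ι φ (Twist.twist 𝒢 (n : ℤ))
  have h3 : Function.Surjective
      (((DCoh.tensorBi.map φ).app ((Scheme.Modules.pullback ι).obj (Twist.twist 𝒢 (n : ℤ)))).app ⊤) := by
    intro y
    obtain ⟨x, hx⟩ := h (pG.inv.app ⊤ y)
    refine ⟨(KFlatLib.projMod ι F (Twist.twist 𝒢 (n : ℤ))).app ⊤ x, ?_⟩
    refine (congr($(congrArg (fun g => Scheme.Modules.Hom.app g ⊤) hsq) x)).symm.trans ?_
    refine (congrArg (pG.hom.app ⊤) hx).trans ?_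
    exact congr($(congrArg (fun g => Scheme.Modules.Hom.app g ⊤) pG.inv_hom_id) y)
  intro y
  obtain ⟨x, hx⟩ := h3 (((DCoh.tensorBi.obj G).map c.inv).app ⊤ y)
  refine ⟨((DCoh.tensorBi.obj F).map c.hom).app ⊤ x, ?_⟩
  refine (congr($(congrArg (fun g => Scheme.Modules.Hom.app g ⊤)
    ((DCoh.tensorBi.map φ).naturality c.hom)) x)).trans ?_
  refine (congrArg (((DCoh.tensorBi.obj G).map c.hom).app ⊤) hx).trans ?_
  exact congr($(congrArg (fun g => Scheme.Modules.Hom.app g ⊤)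
    (((DCoh.tensorBi.obj G).mapIso c).inv_hom_id)) y)

/-- Surjectivity on global sections of high twists. -/
theorem exists_surjective_closed [IsDomain R] [Finite (MaximalSpectrum R)]
    (hR : ∀ (p : Ideal R) [p.IsPrime], ValuationRing (Localization.AtPrime p))
    [Flat (ι ≫ CohB1.ProjSpace.toSpec k R)] {F G : X.Modules} (hF : CohB1.IsFP F) (hG : CohB1.IsFP G)
    (φ : F ⟶ G) [Epi φ] :
    ∃ N : ℕ, ∀ n : ℕ, N ≤ n →
      Function.Surjective (((DCoh.tensorBi.map φ).app (CohB1.tensorPow (oneX ι) n)).app ⊤) := by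
  haveI : PreservesColimitsOfShape WalkingSpan (Scheme.Modules.pushforward ι) :=
    KFlatLib.preservesColimitsOfShape_push ι _
  let ψ := (Scheme.Modules.pushforward ι).map φ
  haveI : Epi ψ := inferInstance
  let S : ShortComplex (Proj (CohB1.polyGrading k R)).Modules :=
    ShortComplex.mk (kernel.ι ψ) ψ (kernel.condition ψ)
  have hmono : Mono S.f := (inferInstance : Mono (kernel.ι ψ))
  have hepi : Epi S.g := (inferInstance : Epi ψ)
  have hS : S.ShortExact :=
    { exact := ShortComplex.exact_of_f_is_kernel _ (kernelIsKernel ψ), mono_f := hmono, epi_g := hepi }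
  have gF := goodFP_push hR ι hF
  have gG := goodFP_push hR ι hG
  have hK : Coh.IsQCoh S.X₁ := QCoh.isQCoh_kernel gF.1 gG.1 ψ
  have gK : GoodFP (Xs k R) S.X₁ := ⟨hK, fun j =>
    finitePresentation_X₁ hS hK (isAffineOpen_D (Xs_mem k R) j) (gF.2 j) (gG.2 j) (subFP_chart hR j)⟩
  obtain ⟨d₀, hd₀⟩ := exists_vanishing (Xs_mem k R) (iSup_Xs k R) (subFP_chart hR) (k + 1) (hvan k R)
    (htw k R) _ gK
  refine ⟨d₀.toNat, fun n hn => ?_⟩
  exact surjective_twist_push ι n φ (QCoh.app_top_surjective_of_HH_one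
    (shortExact_twistBy (Xs k R) (Xs_mem k R) (iSup_Xs k R) (n : ℤ) hS) (hd₀ n (by omega) 1 Nat.one_pos))

end Groth.Agent.PruferCoh
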