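import Groth.Agent.PruferCoh.Basic
import Groth.Agent.FlatModel.Open

/-!
# Saturated submodules over polynomial rings over arbitrary Prüfer domains

At each prime of the base finitely many generators suffice locally; by openness of the flat locus and
quasi-compactness finitely many primes of the base suffice.
-/

set_option autoImplicit false
set_option linter.style.haveILetI false

universe u

open MvPolynomial

namespace Groth.Agent.PruferCoh

variable {R : Type u} [CommRing R] [IsDomain R]
  (hR : ∀ (p : Ideal R) [p.IsPrime], ValuationRing (Localization.AtPrime p)) {n s : ℕ}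

include hR in
/-- **Saturated submodules over a polynomial ring over a Prüfer domain are finitely generated.** -/
theorem fg_of_saturated_prufer
    (N : Submodule (MvPolynomial (Fin n) R) (Fin s → MvPolynomial (Fin n) R)) (hN : Saturated R N) : N.FG := by
  classical
  choose G hGN hG using fun p : PrimeSpectrum R => exists_local_generators hR N hN p.asIdeal
  let Np : PrimeSpectrum R → Submodule (MvPolynomial (Fin n) R) (Fin s → MvPolynomial (Fin n) R) := fun p =>
    Submodule.span _ (G p : Set (Fin s → MvPolynomial (Fin n) R))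
  have hle : ∀ p, Np p ≤ N := fun p => Submodule.span_le.2 (hGN p)
  haveI : ∀ p, Module.FinitePresentation (MvPolynomial (Fin n) R)
      ((Fin s → MvPolynomial (Fin n) R) ⧸ Np p) := fun p =>
    Module.finitePresentation_of_surjective (Np p).mkQ (Np p).mkQ_surjective
      (by rw [Submodule.ker_mkQ]; exact Submodule.fg_span (Finset.finite_toSet _))
  let U : PrimeSpectrum R → Set (PrimeSpectrum (MvPolynomial (Fin n) R)) := fun p =>
    {q | Module.Flat R (LocalizedModule q.asIdeal.primeCompl ((Fin s → MvPolynomial (Fin n) R) ⧸ Np p))}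
  have hUo : ∀ p, IsOpen (U p) := fun p => FlatModel.isOpen_flatLocus _
  have hself : ∀ q : PrimeSpectrum (MvPolynomial (Fin n) R),
      q ∈ U (PrimeSpectrum.comap (MvPolynomial.C : R →+* MvPolynomial (Fin n) R) q) := by
    intro q
    set p := PrimeSpectrum.comap (MvPolynomial.C : R →+* MvPolynomial (Fin n) R) q with hp
    refine (Module.Flat.flat_iff_torsion_eq_bot_of_valuationRing_localization_isMaximal ?_).2 ?_
    · intro P hP
      haveI := hP.isPrime
      exact hR P
    refine (Submodule.eq_bot_iff _).2 fun z hz => ?_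
    obtain ⟨⟨r, hr⟩, hrz⟩ := hz
    induction z using LocalizedModule.induction_on with
    | h x t =>
      obtain ⟨v, rfl⟩ := Submodule.mkQ_surjective (Np p) x
      have hr0 : r ≠ 0 := nonZeroDivisors.ne_zero hr
      have h1 : LocalizedModule.mk (r • (Np p).mkQ v) t =
          LocalizedModule.mk (0 : (Fin s → MvPolynomial (Fin n) R) ⧸ Np p) 1 := by
        rw [← LocalizedModule.smul'_mk, LocalizedModule.zero_mk]
        exact hrz
      obtain ⟨g, hg⟩ := LocalizedModule.mk_eq.1 h1
      rw [smul_zero, smul_zero, one_smul] at hg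
      have h2 : (g : MvPolynomial (Fin n) R) • r • v ∈ Np p :=
        (Submodule.Quotient.mk_eq_zero _).1 hg
      rw [smul_comm] at h2
      obtain ⟨d, hd, hdx⟩ := hG p _ (hN r _ hr0 (hle p h2))
      refine LocalizedModule.mk_eq.2 ?_ |>.trans (LocalizedModule.zero_mk 1)
      refine ⟨⟨MvPolynomial.C d * (g : MvPolynomial (Fin n) R), fun h => ?_⟩, ?_⟩
      · rcases q.isPrime.mem_or_mem h with h | h
        · exact hd h
        · exact g.2 h
      · rw [smul_zero, smul_zero, one_smul]
        show (MvPolynomial.C d * (g : MvPolynomial (Fin n) R)) • (Np p).mkQ v = 0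
        refine (Submodule.Quotient.mk_eq_zero _).2 ?_
        show (MvPolynomial.C d * (g : MvPolynomial (Fin n) R)) • v ∈ Np p
        rw [mul_smul]
        have h3 : MvPolynomial.C d • ((g : MvPolynomial (Fin n) R) • v) = d • ((g : MvPolynomial (Fin n) R) • v) :=
          (algebraMap_smul (MvPolynomial (Fin n) R) d ((g : MvPolynomial (Fin n) R) • v))
        rw [h3]
        exact hdx
  obtain ⟨T, hT⟩ := isCompact_univ.elim_finite_subcover U hUo
    (fun q _ => Set.mem_iUnion.2 ⟨_, hself q⟩)
  refine ⟨T.biUnion G, le_antisymm (Submodule.span_le.2 ?_) fun x hx => ?_⟩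
  · intro y hy
    obtain ⟨p, -, hp⟩ := Finset.mem_biUnion.1 (Finset.mem_coe.1 hy)
    exact hGN p y hp
  let N' : Submodule (MvPolynomial (Fin n) R) (Fin s → MvPolynomial (Fin n) R) :=
    Submodule.span _ (↑(T.biUnion G) : Set (Fin s → MvPolynomial (Fin n) R))
  let C' : Ideal (MvPolynomial (Fin n) R) :=
    N'.comap (LinearMap.toSpanSingleton (MvPolynomial (Fin n) R) _ x)
  have hC : C' = ⊤ := by
    by_contra h
    obtain ⟨m, hm, hmle⟩ := Ideal.exists_le_maximal C' h
    haveI := hm.isPrime
    obtain ⟨p, hpT, hmU⟩ := Set.mem_iUnion₂.1 (hT (Set.mem_univ (⟨m, hm.isPrime⟩ : PrimeSpectrum _)))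
    have htor : Submodule.torsion R (LocalizedModule m.primeCompl ((Fin s → MvPolynomial (Fin n) R) ⧸ Np p)) = ⊥ :=
      (Module.Flat.flat_iff_torsion_eq_bot_of_valuationRing_localization_isMaximal
        (fun P hP => haveI := hP.isPrime; hR P)).1 hmU
    obtain ⟨d, hd, hdx⟩ := hG p x hx
    have hd0 : d ≠ 0 := fun h => hd (by rw [h]; exact zero_mem _)
    have h1 : LocalizedModule.mk ((Np p).mkQ x) (1 : m.primeCompl) ∈
        Submodule.torsion R (LocalizedModule m.primeCompl ((Fin s → MvPolynomial (Fin n) R) ⧸ Np p)) := by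
      refine ⟨⟨d, mem_nonZeroDivisors_of_ne_zero hd0⟩, ?_⟩
      show d • LocalizedModule.mk ((Np p).mkQ x) (1 : m.primeCompl) = 0
      rw [LocalizedModule.smul'_mk, ← LinearMap.map_smul_of_tower]
      rw [show (Np p).mkQ (d • x) = 0 from (Submodule.Quotient.mk_eq_zero _).2 hdx, LocalizedModule.zero_mk]
    rw [htor, Submodule.mem_bot, ← LocalizedModule.zero_mk 1] at h1
    obtain ⟨g, hg⟩ := LocalizedModule.mk_eq.1 h1
    rw [smul_zero, smul_zero, one_smul] at hg
    have h2 : (g : MvPolynomial (Fin n) R) • x ∈ Np p := (Submodule.Quotient.mk_eq_zero _).1 hg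
    exact g.2 (hmle (Submodule.span_mono (Finset.coe_subset.2 (Finset.subset_biUnion_of_mem G hpT)) h2))
  have h1 : (1 : MvPolynomial (Fin n) R) • x ∈ N' := show (1 : MvPolynomial (Fin n) R) ∈ C' from hC ▸ Submodule.mem_top
  rwa [one_smul] at h1

include hR in
/-- Polynomial rings over Prüfer domains are coherent. -/
theorem subFP_mvPolynomial_prufer : CAlgUI.SubFP (MvPolynomial (Fin n) R) (MvPolynomial (Fin n) R) := by
  intro I hI
  obtain ⟨k, a, ha⟩ := Submodule.fg_iff_exists_fin_generating_family.1 hI
  let φ : (Fin k → MvPolynomial (Fin n) R) →ₗ[MvPolynomial (Fin n) R] MvPolynomial (Fin n) R :=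
    Fintype.linearCombination _ a
  have hr : LinearMap.range φ = I := by rw [Fintype.range_linearCombination, ha]
  have hsat : Saturated R (LinearMap.ker φ) := fun c x hc hx => by
    rw [LinearMap.mem_ker, LinearMap.map_smul_of_tower, smul_eq_C_mul, mul_eq_zero] at hx
    rcases hx with hx | hx
    · exact absurd (C_eq_zero.1 hx) hc
    · exact hx
  refine Module.finitePresentation_of_surjective ((LinearEquiv.ofEq _ _ hr).toLinearMap ∘ₗ φ.rangeRestrict)
    ((LinearEquiv.ofEq _ _ hr).surjective.comp φ.surjective_rangeRestrict) ?_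
  rw [LinearEquiv.ker_comp, LinearMap.ker_rangeRestrict]
  exact fg_of_saturated_prufer hR _ hsat

end Groth.Agent.PruferCoh
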